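import Groth.Agent.AcycCxLib.Serre
import Groth.Agent.InjModLib.Crit
import Groth.Agent.StabLib.CohExt
import Groth.Agent.S0036
import Groth.Agent.ExtCohLib.Basic
import Groth.Agent.RpushLib.Comp
import Groth.Agent.DevissLib.Basic
import Groth.Agent.HomCohLib.Adj

/-!
# Coherence of relative Ext sheaves of a proper morphism
-/

set_option autoImplicit false
set_option linter.style.haveILetI false
set_option linter.unusedSectionVars false
set_option backward.isDefEq.respectTransparency false
set_option backward.isDefEq.respectTransparency.types false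
set_option maxHeartbeats 1000000

universe u

open CategoryTheory CategoryTheory.Limits AlgebraicGeometry Opposite
open QCohLib (toAbF)

attribute [local instance] HasDerivedCategory.standard

namespace Groth.Agent.AcycCxLib

variable {X Y : Scheme.{u}}

theorem isWeakSerre_isCoh [IsLocallyNoetherian Y] : IsWeakSerre (fun M : Y.Modules => Coh.IsCoh M) where
  zero h := DevissLib.isCoh_of_isZero h
  of_iso e h := QCohLib.isCoh_of_iso e h
  kernel f ha hb := QCohLib.isCoh_kernel f ha hb.1
  cokernel f ha hb := QCohLib.isCoh_cokernel f ha.1 hb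
  extension hS h₁ h₃ := StabLib.isCoh_extension hS h₁ h₃

/-- `Hom(F, -)` as a functor on modules. -/
noncomputable abbrev sh (F : X.Modules) [ModSite.HasSheafHom (O := X.sheaf) F] : X.Modules ⥤ X.Modules :=
  ModSite.sheafHom (O := X.sheaf) F

theorem isFlasque_sh (F I : X.Modules) [ModSite.HasSheafHom (O := X.sheaf) F] [Injective I] :
    TopCat.Sheaf.IsFlasque ((toAbF X).obj ((sh F).obj I) : TopCat.Sheaf AddCommGrpCat.{u} X.toTopCat) := by
  haveI : DCoh.HasSheafHom F := (HomCohLib.homAdj F).isLeftAdjoint
  let e : (DCoh.sheafHom F).obj I ≅ (sh F).obj I :=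
    HomCohLib.sheafHomIso F I ≪≫ ((ExtShLib.shIso F).app I).symm
  constructor
  intro U V i
  refine (AddCommGrpCat.epi_iff_surjective _).mpr fun t => ?_
  let E : ((DCoh.sheafHom F).obj I).presheaf ≅ ((sh F).obj I).presheaf := (Scheme.Modules.toPresheaf X).mapIso e
  let t' : ((sh F).obj I).presheaf.obj V := t
  obtain ⟨s, hs⟩ : ∃ s, ((DCoh.sheafHom F).obj I).presheaf.map i s = E.inv.app V t' :=
    InjModLib.flasque_sheafHom F I (U := V.unop) (V := U.unop) i.unop.le (E.inv.app V t')
  refine ⟨E.hom.app U s, ?_⟩
  show ((sh F).obj I).presheaf.map i (E.hom.app U s) = t'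
  have h := ConcreteCategory.congr_hom (E.hom.naturality i) s
  simp only [CategoryTheory.comp_apply] at h
  rw [← h]
  refine (congrArg (E.hom.app V) hs).trans ?_
  have h2 := ConcreteCategory.congr_hom (E.inv_hom_id_app V) t'
  simp only [CategoryTheory.comp_apply, CategoryTheory.id_apply] at h2
  exact h2

theorem isCoh_relExt [IsLocallyNoetherian Y] (f : X ⟶ Y) [IsProper f] (F G : X.Modules) (hF : Coh.IsCoh F)
    (hG : Coh.IsCoh G) [ModSite.HasSheafHom (O := X.sheaf) F] [HasInjectiveResolutions X.Modules]
    [(sh F ⋙ Scheme.Modules.pushforward f).Additive] (p : ℕ) :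
    Coh.IsCoh (((sh F ⋙ Scheme.Modules.pushforward f).rightDerived p).obj G) := by
  haveI : IsLocallyNoetherian X := LocallyOfFiniteType.isLocallyNoetherian f
  haveI : HasInjectiveResolutions (ModSite.Mod X.sheaf) := ‹HasInjectiveResolutions X.Modules›
  haveI : (sh F).Additive := (ModSite.sheafHomAdj (O := X.sheaf) F).right_adjoint_additive
  haveI : PreservesFiniteLimits (Scheme.Modules.pushforward f) :=
    have : PreservesLimitsOfSize.{0, 0} (Scheme.Modules.pushforward f) :=
      (Scheme.Modules.pullbackPushforwardAdjunction f).rightAdjoint_preservesLimits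
    PreservesLimitsOfSize.preservesFiniteLimits _
  let I := InjectiveResolution.of G
  let C : CochainComplex X.Modules ℕ := ((sh F).mapHomologicalComplex _).obj I.cocomplex
  have hK : ∀ n q, IsZero (((Scheme.Modules.pushforward f).rightDerived (q + 1)).obj (C.X n)) := fun n q => by
    exact (SpSeqLib.isSAcyclic_iff _ _).1
      (@RpushLib.isSAcyclic_pushforward X Y f _ (C.X n) (isFlasque_sh F (I.cocomplex.X n))) (q + 1) (Nat.succ_pos q)
  have hH : ∀ n ≤ p, ∀ q, Coh.IsCoh (((Scheme.Modules.pushforward f).rightDerived q).obj (C.homology n)) := fun n _ q =>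
    Groth.Agent.S0036.result f _ (QCohLib.isCoh_of_iso (I.isoRightDerivedObj (sh F) n)
      (Groth.Agent.ExtCohLib.isCoh_extSh X F G hF hG n)) q
  exact QCohLib.isCoh_of_iso (I.isoRightDerivedObj (sh F ⋙ Scheme.Modules.pushforward f) p).symm
    (homology_mem (isWeakSerre_isCoh (Y := Y)) (Scheme.Modules.pushforward f) hK hH p le_rfl)

end Groth.Agent.AcycCxLib
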