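import Groth.Agent.AcycCxLib.RelExtCoh
import Groth.Agent.HomTwistLib.Main
import Groth.Agent.SerreVanLib.Rpush

/-!
# Relative Ext sheaves of a composition after a large twist
-/

set_option autoImplicit false
set_option linter.style.haveILetI false
set_option linter.unusedSectionVars false
set_option backward.isDefEq.respectTransparency false
set_option backward.isDefEq.respectTransparency.types false
set_option maxHeartbeats 1000000

universe u

open CategoryTheory CategoryTheory.Limits AlgebraicGeometry Opposite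
open QCohLib (toAbF)
open Groth.Agent.HomTwistLib (tR homTwistIso projTR)

attribute [local instance] HasDerivedCategory.standard

namespace Groth.Agent.AcycCxLib

variable {X Y : Scheme.{u}}

/-- Twists by locally free modules from the base. -/
theorem nonempty_relExt_twist_base (f : X ⟶ Y) (F G : X.Modules) (L : Y.Modules) (hL : FlatMod.IsFinLocFree L)
    [ModSite.HasSheafHom (O := X.sheaf) F] [HasInjectiveResolutions X.Modules]
    [(sh F ⋙ Scheme.Modules.pushforward f).Additive] (q : ℕ) :
    Nonempty (((sh F ⋙ Scheme.Modules.pushforward f).rightDerived q).obj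
        (CohB1.tensorMod G ((Scheme.Modules.pullback f).obj L)) ≅
      CohB1.tensorMod (((sh F ⋙ Scheme.Modules.pushforward f).rightDerived q).obj G) L) := by
  have hfL : FlatMod.IsFinLocFree ((Scheme.Modules.pullback f).obj L) := KFlatLib.isFinLocFree_pull f hL
  haveI := HomTwistLib.preservesHomology_tR hfL
  haveI := HomTwistLib.preservesInjective_tR hfL
  haveI := HomTwistLib.preservesHomology_tR hL
  let P := Scheme.Modules.pushforward f
  let ν : tR ((Scheme.Modules.pullback f).obj L) ⋙ (sh F ⋙ P) ≅ (sh F ⋙ P) ⋙ tR L :=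
    Functor.isoWhiskerLeft _ (Functor.isoWhiskerRight (ExtShLib.shIso F) P) ≪≫
    (Functor.associator _ _ _).symm ≪≫
    Functor.isoWhiskerRight (homTwistIso F hfL) P ≪≫
    Functor.associator _ _ _ ≪≫
    Functor.isoWhiskerLeft _ (projTR f hL).symm ≪≫
    Functor.isoWhiskerRight (ExtShLib.shIso F).symm (P ⋙ tR L) ≪≫
    (Functor.associator _ _ _).symm
  exact ⟨((RightDerCompLib.rightDerivedExactComp (tR ((Scheme.Modules.pullback f).obj L)) (sh F ⋙ P) q).app G).symm ≪≫
    (RightDerCompLib.rightDerivedCongr ν q).app G ≪≫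
    (RightDerCompLib.rightDerivedCompExact (sh F ⋙ P) (tR L) q).app G⟩

theorem exists_relExt_comp_large {Z : Scheme.{u}} [IsNoetherian Z] (f : X ⟶ Y) [IsProper f] (g : Y ⟶ Z) [IsProper g]
    (L : Y.Modules) (hL : PicF.IsInvertible L)
    (ha : ∀ W : Z.Opens, IsAffineOpen W → CohB1.IsAmple (L.restrict (g ⁻¹ᵁ W).ι))
    (F G : X.Modules) (hF : Coh.IsCoh F) (hG : Coh.IsCoh G)
    [ModSite.HasSheafHom (O := X.sheaf) F] [HasInjectiveResolutions X.Modules] [HasInjectiveResolutions Y.Modules]
    [(sh F ⋙ Scheme.Modules.pushforward f).Additive] [(sh F ⋙ Scheme.Modules.pushforward (f ≫ g)).Additive]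
    (p : ℕ) :
    ∃ l₀ : ℕ, ∀ l : ℕ, l₀ ≤ l → ∀ (L' : Y.Modules), (CohB1.tensorPow L l ≅ L') →
      Nonempty ((Scheme.Modules.pushforward g).obj (((sh F ⋙ Scheme.Modules.pushforward f).rightDerived p).obj
          (CohB1.tensorMod G ((Scheme.Modules.pullback f).obj L'))) ≅
        ((sh F ⋙ Scheme.Modules.pushforward (f ≫ g)).rightDerived p).obj
          (CohB1.tensorMod G ((Scheme.Modules.pullback f).obj L'))) := by
  haveI : IsLocallyNoetherian Y := LocallyOfFiniteType.isLocallyNoetherian g
  haveI : PreservesFiniteLimits (Scheme.Modules.pushforward g) :=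
    have : PreservesLimitsOfSize.{0, 0} (Scheme.Modules.pushforward g) :=
      (Scheme.Modules.pullbackPushforwardAdjunction g).rightAdjoint_preservesLimits
    PreservesLimitsOfSize.preservesFiniteLimits _
  let T : X.Modules ⥤ Y.Modules := sh F ⋙ Scheme.Modules.pushforward f
  have hb : ∀ b : ℕ, ∃ l₀ : ℕ, ∀ l : ℕ, l₀ ≤ l → ∀ q : ℕ,
      IsZero (((Scheme.Modules.pushforward g).rightDerived (q + 1)).obj
        (CohB1.tensorMod ((T.rightDerived b).obj G) (CohB1.tensorPow L l))) := fun b => by
    obtain ⟨n₀, h₀⟩ := SerreVanLib.exists_vanishing_rpush g L hL ha _ (isCoh_relExt f F G hF hG b)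
    refine ⟨n₀, fun l hl q => ?_⟩
    obtain ⟨e⟩ := RpushLib.nonempty_toAb_rpush_iso g (CohB1.tensorMod ((T.rightDerived b).obj G) (CohB1.tensorPow L l)) (q + 1)
    exact RpushLib.isZero_of_isZero_toAb ((h₀ l hl (q + 1) (Nat.succ_pos q)).of_iso e)
  choose l₀ hl₀ using hb
  refine ⟨(Finset.range (p + 1)).sup l₀, fun l hl L' eL => ?_⟩
  have hL' : FlatMod.IsFinLocFree L' := PerfLib.isFinLocFree_of_iso eL
    (CurveVBLib.isFinLocFree_of_rank (CurvLib.locFree_of_isInvertible (AmpleThLib.tensorPow_isInvertible hL l)))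
  let G' := CohB1.tensorMod G ((Scheme.Modules.pullback f).obj L')
  let I := InjectiveResolution.of G'
  let K : CochainComplex Y.Modules ℕ := (T.mapHomologicalComplex _).obj I.cocomplex
  have hK : ∀ n q, IsZero (((Scheme.Modules.pushforward g).rightDerived (q + 1)).obj (K.X n)) := fun n q => by
    refine (SpSeqLib.isSAcyclic_iff _ _).1 (@RpushLib.isSAcyclic_pushforward Y Z g _ (K.X n) ?_) (q + 1) (Nat.succ_pos q)
    refine ⟨fun {A B} a => (AddCommGrpCat.epi_iff_surjective _).mpr fun t => ?_⟩
    obtain ⟨s, hs⟩ := (AddCommGrpCat.epi_iff_surjective _).1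
      ((isFlasque_sh F (I.cocomplex.X n)).epi ((TopologicalSpace.Opens.map f.base).map a.unop).op) t
    exact ⟨s, hs⟩
  have hH : ∀ b ≤ p, ∀ q, IsZero (((Scheme.Modules.pushforward g).rightDerived (q + 1)).obj (K.homology b)) := fun b hbp q => by
    obtain ⟨e⟩ := nonempty_relExt_twist_base f F G L' hL' b
    exact (hl₀ b l ((Finset.le_sup (Finset.mem_range.2 (Nat.lt_succ_of_le hbp))).trans hl) q).of_iso
      (Functor.mapIso _ ((I.isoRightDerivedObj T b).symm ≪≫ e ≪≫ ((DCoh.tensorBi (X := Y)).obj _).mapIso eL.symm))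
  obtain ⟨h⟩ := nonempty_homology_iso (Scheme.Modules.pushforward g) hK hH p le_rfl
  exact ⟨(Scheme.Modules.pushforward g).mapIso (I.isoRightDerivedObj T p) ≪≫ h ≪≫
    HomologicalComplex.homologyMapIso (HomologicalComplex.Hom.isoOfComponents
      (fun k => (Scheme.Modules.pushforwardComp f g).app ((sh F).obj (I.cocomplex.X k)))
      (fun a b _ => ((Scheme.Modules.pushforwardComp f g).hom.naturality ((sh F).map (I.cocomplex.d a b))).symm)) p ≪≫
    (I.isoRightDerivedObj (sh F ⋙ Scheme.Modules.pushforward (f ≫ g)) p).symm⟩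

end Groth.Agent.AcycCxLib
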