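import Groth.Agent.RDerLib.LeftExact
import Mathlib.CategoryTheory.Abelian.DiagramLemmas.KernelCokernelComp
import Mathlib.CategoryTheory.Abelian.Exact
import Mathlib.Algebra.Homology.HomologicalComplexAbelian

/-!
# Weak Serre classes and complexes of acyclic objects

If the higher derived functors of all homology objects of a complex of acyclic objects lie in a class closed
under kernels, cokernels and extensions, so does the homology of the image complex.
-/

set_option autoImplicit false
set_option linter.style.haveILetI false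
set_option linter.unusedSectionVars false
set_option backward.isDefEq.respectTransparency false
set_option backward.isDefEq.respectTransparency.types false

universe v u v' u'

open CategoryTheory CategoryTheory.Limits

namespace Groth.Agent.AcycCxLib

variable {D : Type u'} [Category.{v'} D] [Abelian D]

/-- A class closed under kernels, cokernels and extensions. -/
structure IsWeakSerre (P : D → Prop) : Prop where
  zero : ∀ {a : D}, IsZero a → P a
  of_iso : ∀ {a b : D}, (a ≅ b) → P a → P b
  kernel : ∀ {a b : D} (f : a ⟶ b), P a → P b → P (kernel f)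
  cokernel : ∀ {a b : D} (f : a ⟶ b), P a → P b → P (cokernel f)
  extension : ∀ {S : ShortComplex D}, S.ShortExact → P S.X₁ → P S.X₃ → P S.X₂

variable {P : D → Prop} (hP : IsWeakSerre P)
include hP

/-- The middle term of a five-term exact sequence. -/
theorem IsWeakSerre.five {a₀ a b c d : D} {e : a₀ ⟶ a} {f : a ⟶ b} {g : b ⟶ c} {h : c ⟶ d}
    {w₁ : e ≫ f = 0} {w₂ : f ≫ g = 0} {w₃ : g ≫ h = 0} (h₁ : (ShortComplex.mk e f w₁).Exact)
    (h₂ : (ShortComplex.mk f g w₂).Exact) (h₃ : (ShortComplex.mk g h w₃).Exact)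
    (ha₀ : P a₀) (ha : P a) (hc : P c) (hd : P d) : P b := by
  let i := cokernel.desc e f w₁
  let p := kernel.lift h g w₃
  haveI : Mono i := h₁.mono_cokernelDesc
  haveI : Epi p := h₃.epi_kernelLift
  have w : i ≫ p = 0 := by
    rw [← cancel_epi (cokernel.π e), ← cancel_mono (kernel.ι h)]
    simp [i, p, w₂]
  have hex : (ShortComplex.mk i p w).Exact := by
    let φ : ShortComplex.mk f g w₂ ⟶ ShortComplex.mk i g (by rw [← cancel_epi (cokernel.π e)]; simp [i, w₂]) :=
      { τ₁ := cokernel.π e, τ₂ := 𝟙 _, τ₃ := 𝟙 _, comm₁₂ := by simp [i], comm₂₃ := by simp }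
    haveI : Epi φ.τ₁ := inferInstanceAs (Epi (cokernel.π e))
    haveI : IsIso φ.τ₂ := inferInstanceAs (IsIso (𝟙 _))
    haveI : Mono φ.τ₃ := inferInstanceAs (Mono (𝟙 _))
    have h4 := (ShortComplex.exact_iff_of_epi_of_isIso_of_mono φ).1 h₂
    let ψ : ShortComplex.mk i p w ⟶ ShortComplex.mk i g (by rw [← cancel_epi (cokernel.π e)]; simp [i, w₂]) :=
      { τ₁ := 𝟙 _, τ₂ := 𝟙 _, τ₃ := kernel.ι h, comm₁₂ := by simp, comm₂₃ := by simp [p] }
    haveI : Epi ψ.τ₁ := inferInstanceAs (Epi (𝟙 _))
    haveI : IsIso ψ.τ₂ := inferInstanceAs (IsIso (𝟙 _))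
    haveI : Mono ψ.τ₃ := inferInstanceAs (Mono (kernel.ι h))
    exact (ShortComplex.exact_iff_of_epi_of_isIso_of_mono ψ).2 h4
  exact hP.extension (ShortComplex.ShortExact.mk (mono_f := inferInstanceAs (Mono i)) (epi_g := inferInstanceAs (Epi p)) hex)
    (hP.cokernel e ha₀ ha) (hP.kernel h hc hd)

variable {C : Type u} [Category.{v} C] [Abelian C] [HasInjectiveResolutions C]
  (S : C ⥤ D) [S.Additive] (K : CochainComplex C ℕ)

omit hP

/-- Boundaries. -/
noncomputable abbrev bd (n : ℕ) : C := kernel (K.homologyπ (n + 1))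

/-- The differential onto the boundaries. -/
noncomputable abbrev toBd (n : ℕ) : K.X n ⟶ bd K n :=
  kernel.lift (K.homologyπ (n + 1)) (K.toCycles n (n + 1)) (K.toCycles_comp_homologyπ n (n + 1))

theorem exact_toCycles_homologyπ (n : ℕ) :
    (ShortComplex.mk (K.toCycles n (n + 1)) (K.homologyπ (n + 1)) (K.toCycles_comp_homologyπ n (n + 1))).Exact :=
  ShortComplex.exact_of_g_is_cokernel _ (K.homologyIsCokernel n (n + 1) (by simp))

instance epi_toBd (n : ℕ) : Epi (toBd K n) := (exact_toCycles_homologyπ K n).epi_kernelLift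

theorem iCycles_toBd (n : ℕ) : K.iCycles n ≫ toBd K n = 0 := by
  rw [← cancel_mono (kernel.ι _), ← cancel_mono (K.iCycles (n + 1))]
  simp

/-- Cycles, terms and boundaries. -/
theorem seq₁_shortExact (n : ℕ) : (ShortComplex.mk (K.iCycles n) (toBd K n) (iCycles_toBd K n)).ShortExact := by
  refine ShortComplex.ShortExact.mk (mono_f := inferInstanceAs (Mono (K.iCycles n)))
    (epi_g := inferInstanceAs (Epi (toBd K n))) ?_
  let φ : ShortComplex.mk (K.iCycles n) (toBd K n) (iCycles_toBd K n) ⟶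
      ShortComplex.mk (K.iCycles n) (K.d n (n + 1)) (K.iCycles_d n (n + 1)) :=
    { τ₁ := 𝟙 _, τ₂ := 𝟙 _, τ₃ := kernel.ι _ ≫ K.iCycles (n + 1), comm₁₂ := by simp, comm₂₃ := by simp }
  haveI : Epi φ.τ₁ := inferInstanceAs (Epi (𝟙 _))
  haveI : IsIso φ.τ₂ := inferInstanceAs (IsIso (𝟙 _))
  haveI : Mono φ.τ₃ := inferInstanceAs (Mono (kernel.ι _ ≫ K.iCycles (n + 1)))
  exact (ShortComplex.exact_iff_of_epi_of_isIso_of_mono φ).2
    (ShortComplex.exact_of_f_is_kernel _ (K.cyclesIsKernel n (n + 1) (by simp)))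

/-- Boundaries, cycles and homology. -/
theorem seq₂_shortExact (n : ℕ) : (ShortComplex.mk (kernel.ι (K.homologyπ (n + 1))) (K.homologyπ (n + 1))
    (kernel.condition _)).ShortExact :=
  ShortComplex.ShortExact.mk (mono_f := inferInstanceAs (Mono (kernel.ι _)))
    (epi_g := inferInstanceAs (Epi (K.homologyπ (n + 1)))) (ShortComplex.exact_kernel _)

variable {K} (hK : ∀ n q, IsZero ((S.rightDerived (q + 1)).obj (K.X n)))
  {N : ℕ} (hH : ∀ n ≤ N, ∀ q, P ((S.rightDerived q).obj (K.homology n)))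
include hP hK hH

theorem bd_of_cycles {n : ℕ} (hz : ∀ q, P ((S.rightDerived (q + 1)).obj (K.cycles n))) (q : ℕ) :
    P ((S.rightDerived (q + 1)).obj (bd K n)) := by
  haveI : IsIso ((RDerLib.derivedLES S).δ _ (seq₁_shortExact K n) (q + 1) (q + 2) rfl) := by
    haveI := ((RDerLib.derivedLES S).exact₁ _ (seq₁_shortExact K n) (q + 1) (q + 2) rfl).epi_f
      ((hK n (q + 1)).eq_of_tgt _ _)
    haveI := ((RDerLib.derivedLES S).exact₃ _ (seq₁_shortExact K n) (q + 1) (q + 2) rfl).mono_g
      ((hK n q).eq_of_src _ _)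
    exact isIso_of_mono_of_epi _
  exact hP.of_iso (asIso ((RDerLib.derivedLES S).δ _ (seq₁_shortExact K n) (q + 1) (q + 2) rfl)).symm (hz (q + 1))

theorem cycles_mem : ∀ n, n ≤ N → ∀ q, P ((S.rightDerived (q + 1)).obj (K.cycles n))
  | 0, hn, q => hP.of_iso ((S.rightDerived (q + 1)).mapIso (CochainComplex.isoHomologyπ₀ K).symm) (hH 0 hn (q + 1))
  | n + 1, hn, q => hP.five ((RDerLib.derivedLES S).exact₁ _ (seq₂_shortExact K n) q (q + 1) rfl)
      ((RDerLib.derivedLES S).exact₂ _ (seq₂_shortExact K n) (q + 1))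
      ((RDerLib.derivedLES S).exact₃ _ (seq₂_shortExact K n) (q + 1) (q + 2) rfl)
      (hH (n + 1) hn q) (bd_of_cycles hP S hK hH (cycles_mem n (Nat.le_of_succ_le hn)) q) (hH (n + 1) hn (q + 1))
      (bd_of_cycles hP S hK hH (cycles_mem n (Nat.le_of_succ_le hn)) (q + 1))

theorem cokernel_mem (p : ℕ) (hp : p + 1 ≤ N) :
    P (cokernel ((S.rightDerived 0).map (K.toCycles p (p + 1)))) := by
  let R := S.rightDerived 0
  let r := R.map (toBd K p)
  let ι := R.map (kernel.ι (K.homologyπ (p + 1)))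
  haveI : Mono ι := RDerLib.mono_map_zero S (seq₂_shortExact K p)
  have hcomp : R.map (K.toCycles p (p + 1)) = r ≫ ι := by
    rw [← R.map_comp, kernel.lift_ι]
  -- the cokernel of the first map is the first derived functor of the cycles
  have ha : P (cokernel r) := by
    let δ := (RDerLib.derivedLES S).δ _ (seq₁_shortExact K p) 0 1 rfl
    have hex := (RDerLib.derivedLES S).exact₃ _ (seq₁_shortExact K p) 0 1 rfl
    haveI : Epi δ := ((RDerLib.derivedLES S).exact₁ _ (seq₁_shortExact K p) 0 1 rfl).epi_f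
      ((hK p 0).eq_of_tgt _ _)
    exact hP.of_iso (IsColimit.coconePointUniqueUpToIso hex.gIsCokernel (colimit.isColimit _))
      (cycles_mem hP S hK hH p (Nat.le_of_succ_le hp) 0)
  have hc : P (cokernel ι) := by
    have hex₂ := (RDerLib.derivedLES S).exact₂ _ (seq₂_shortExact K p) 0
    let π := R.map (K.homologyπ (p + 1))
    have hex₃ := (RDerLib.derivedLES S).exact₃ _ (seq₂_shortExact K p) 0 1 rfl
    let δ := (RDerLib.derivedLES S).δ _ (seq₂_shortExact K p) 0 1 rfl
    let m := kernel.lift δ π ((RDerLib.derivedLES S).comp_δ _ (seq₂_shortExact K p) 0 1 rfl)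
    haveI : Epi m := hex₃.epi_kernelLift
    have w : ι ≫ m = 0 := by
      rw [← cancel_mono (kernel.ι δ), Category.assoc, kernel.lift_ι, zero_comp, ← R.map_comp, kernel.condition,
        Functor.map_zero]
    let j := cokernel.desc ι m w
    haveI : Epi j := epi_of_epi_fac (cokernel.π_desc ι m w)
    haveI : Mono j := by
      refine @mono_of_mono _ _ _ _ _ j (kernel.ι δ) ?_
      have h1 : j ≫ kernel.ι δ = cokernel.desc ι π (by rw [← R.map_comp, kernel.condition, Functor.map_zero]) := by
        rw [← cancel_epi (cokernel.π ι)]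
        simp [j, m]
      rw [h1]
      exact hex₂.mono_cokernelDesc
    haveI := isIso_of_mono_of_epi j
    exact hP.of_iso (asIso j).symm (hP.kernel δ (hH (p + 1) hp 0) (bd_of_cycles hP S hK hH (cycles_mem hP S hK hH p (Nat.le_of_succ_le hp)) 0))
  rw [hcomp]
  have hkc := kernelCokernelCompSequence_exact r ι
  let a := cokernel.map r (r ≫ ι) (𝟙 _) ι (by simp)
  let b := cokernel.map (r ≫ ι) ι r (𝟙 _) (by simp)
  have hab : (ShortComplex.mk a b (by rw [← cancel_epi (cokernel.π r)]; simp [a, b])).Exact := hkc.exact 3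
  haveI : Mono a := by
    have h2 := hkc.exact 2
    exact h2.mono_g ((IsZero.eq_of_src (isZero_kernel_of_mono ι) _ _))
  haveI : Epi b := inferInstance
  exact hP.extension (ShortComplex.ShortExact.mk (mono_f := inferInstanceAs (Mono a))
    (epi_g := inferInstanceAs (Epi b)) hab) ha hc

omit hP hK hH

/-- Homology of the image complex in degree zero. -/
theorem nonempty_homology_zero_iso [PreservesFiniteLimits S] (K : CochainComplex C ℕ) :
    Nonempty (S.obj (K.homology 0) ≅ ((S.mapHomologicalComplex _).obj K).homology 0) := by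
  let T := (S.mapHomologicalComplex (ComplexShape.up ℕ)).obj K
  let k : IsLimit (KernelFork.ofι (S.map (K.iCycles 0)) (show S.map (K.iCycles 0) ≫ T.d 0 1 = 0 by
    rw [show T.d 0 1 = S.map (K.d 0 1) from rfl, ← S.map_comp, K.iCycles_d, S.map_zero])) :=
    KernelFork.mapIsLimit _ (K.cyclesIsKernel 0 1 (by simp)) S
  exact ⟨S.mapIso (CochainComplex.isoHomologyπ₀ K).symm ≪≫
    (IsLimit.conePointUniqueUpToIso k (T.cyclesIsKernel 0 1 (by simp))) ≪≫ CochainComplex.isoHomologyπ₀ T⟩

/-- Homology of the image complex in positive degrees. -/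
theorem nonempty_homology_succ_iso [PreservesFiniteLimits S] (K : CochainComplex C ℕ) (p : ℕ) :
    Nonempty (cokernel ((S.rightDerived 0).map (K.toCycles p (p + 1))) ≅
      ((S.mapHomologicalComplex _).obj K).homology (p + 1)) := by
  let T := (S.mapHomologicalComplex (ComplexShape.up ℕ)).obj K
  let k : IsLimit (KernelFork.ofι (S.map (K.iCycles (p + 1)))
      (show S.map (K.iCycles (p + 1)) ≫ T.d (p + 1) (p + 2) = 0 by
    rw [show T.d (p + 1) (p + 2) = S.map (K.d (p + 1) (p + 2)) from rfl, ← S.map_comp, K.iCycles_d, S.map_zero])) :=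
    KernelFork.mapIsLimit _ (K.cyclesIsKernel (p + 1) (p + 2) (by simp)) S
  let e := IsLimit.conePointUniqueUpToIso k (T.cyclesIsKernel (p + 1) (p + 2) (by simp))
  have he : e.hom ≫ T.iCycles (p + 1) = S.map (K.iCycles (p + 1)) :=
    IsLimit.conePointUniqueUpToIso_hom_comp k _ WalkingParallelPair.zero
  let φ : Arrow.mk ((S.rightDerived 0).map (K.toCycles p (p + 1))) ≅ Arrow.mk (T.toCycles p (p + 1)) :=
    Arrow.isoMk (S.rightDerivedZeroIsoSelf.app _) (S.rightDerivedZeroIsoSelf.app _ ≪≫ e) (by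
      dsimp
      rw [← cancel_mono (T.iCycles (p + 1))]
      simp only [Category.assoc, HomologicalComplex.toCycles_i, he]
      show _ ≫ S.map (K.d p (p + 1)) = _
      rw [← K.toCycles_i p (p + 1), S.map_comp]
      exact (S.rightDerivedZeroIsoSelf.hom.naturality_assoc (K.toCycles p (p + 1)) _).symm)
  exact ⟨cokernel.mapIso _ _ (Arrow.leftFunc.mapIso φ) (Arrow.rightFunc.mapIso φ) φ.hom.w.symm ≪≫
      IsColimit.coconePointUniqueUpToIso (cokernelIsCokernel _) (T.homologyIsCokernel p (p + 1) (by simp))⟩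

include hP hK hH

/-- **The homology of the image of a complex of acyclic objects.** -/
theorem homology_mem [PreservesFiniteLimits S] : ∀ p, p ≤ N → P (((S.mapHomologicalComplex _).obj K).homology p)
  | 0, hp => hP.of_iso ((S.rightDerivedZeroIsoSelf.app _) ≪≫ (nonempty_homology_zero_iso S K).some) (hH 0 hp 0)
  | p + 1, hp => hP.of_iso (nonempty_homology_succ_iso S K p).some (cokernel_mem hP S hK hH p hp)

omit hP hK hH

theorem isWeakSerre_isZero : IsWeakSerre (fun M : D => IsZero M) where
  zero h := h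
  of_iso e h := h.of_iso e.symm
  kernel f ha _ := (IsZero.iff_id_eq_zero _).2 ((cancel_mono (kernel.ι f)).1 (ha.eq_of_tgt _ _))
  cokernel f _ hb := (IsZero.iff_id_eq_zero _).2 ((cancel_epi (cokernel.π f)).1 (hb.eq_of_src _ _))
  extension hS h₁ h₃ := hS.exact.isZero_X₂ (h₁.eq_of_src _ _) (h₃.eq_of_tgt _ _)

/-- If the homology has no higher derived functors, homology commutes with the functor. -/
theorem nonempty_homology_iso [PreservesFiniteLimits S] {K : CochainComplex C ℕ}
    (hK : ∀ n q, IsZero ((S.rightDerived (q + 1)).obj (K.X n))) {N : ℕ}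
    (hH : ∀ n ≤ N, ∀ q, IsZero ((S.rightDerived (q + 1)).obj (K.homology n))) :
    ∀ p, p ≤ N → Nonempty (S.obj (K.homology p) ≅ ((S.mapHomologicalComplex _).obj K).homology p)
  | 0, _ => nonempty_homology_zero_iso S K
  | p + 1, hp => by
    have hz : ∀ n, n ≤ N → ∀ q, IsZero ((S.rightDerived (q + 1)).obj (K.cycles n)) := by
      intro n
      induction n with
      | zero => exact fun hn q => (hH 0 hn q).of_iso ((S.rightDerived (q + 1)).mapIso (CochainComplex.isoHomologyπ₀ K))
      | succ n ih =>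
        intro hn q
        refine RDerLib.isZero_X₂ (seq₂_shortExact K n) (q + 1) ?_ (hH (n + 1) hn q)
        exact RDerLib.isZero_X₃ (seq₁_shortExact K n) (q + 1) (ih (Nat.le_of_succ_le hn) (q + 1)) (hK n q)
    haveI : Epi ((S.rightDerived 0).map (toBd K p)) :=
      RDerLib.epi_map_g (seq₁_shortExact K p) 0 (hz p (Nat.le_of_succ_le hp) 0)
    haveI : Epi ((S.rightDerived 0).map (K.homologyπ (p + 1))) :=
      RDerLib.epi_map_g (seq₂_shortExact K p) 0
        (RDerLib.isZero_X₃ (seq₁_shortExact K p) 1 (hz p (Nat.le_of_succ_le hp) 1) (hK p 0))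
    have hex₂ := (RDerLib.derivedLES S).exact₂ _ (seq₂_shortExact K p) 0
    haveI : Epi ((ShortComplex.mk _ _ (kernel.condition (K.homologyπ (p + 1)))).map (S.rightDerived 0)).g :=
      inferInstanceAs (Epi ((S.rightDerived 0).map (K.homologyπ (p + 1))))
    obtain ⟨e⟩ := nonempty_homology_succ_iso S K p
    refine ⟨(S.rightDerivedZeroIsoSelf.app _).symm ≪≫ ?_ ≪≫ e⟩
    refine IsColimit.coconePointUniqueUpToIso hex₂.gIsCokernel (colimit.isColimit _) ≪≫
      (cokernelEpiComp ((S.rightDerived 0).map (toBd K p)) ((S.rightDerived 0).map (kernel.ι (K.homologyπ (p + 1))))).symm ≪≫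
      cokernelIsoOfEq ?_
    rw [← Functor.map_comp, kernel.lift_ι]

end Groth.Agent.AcycCxLib
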